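import Cfsg.Agent.H780.P9.Fin

/-!
# S5925, box H: assembly of the WP lemmas (helper780)
-/

set_option autoImplicit false
set_option linter.style.longLine false

namespace Cfsg.Agent.H780.P9
open Matrix Cfsg.Agent.H879.E83

section
variable {F : Type*} [Field F] {g : F}

/-- all the WP lemmas -/
structure WPs (g : F) : Prop where
  D1 : ∀ {q p : Mt F} {m : F} {t : Fin 10 → F}, Ctx g q p m t → ∀ (x y : F) (s : Fin 11 → F), WD1 g q p t x y s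
  S3 : ∀ {q p : Mt F} {m : F} {t : Fin 10 → F}, Ctx g q p m t → ∀ x y, (∀ s, WD1 g q p t x y s) → WS3 g q p t x y
  S2 : ∀ {q p : Mt F} {m : F} {t : Fin 10 → F}, Ctx g q p m t → WS3 g q p t 0 0 → WS2 g q p t
  S2i : ∀ {q p : Mt F} {m : F} {t : Fin 10 → F}, Ctx g q p m t → p 1 3 = 1 → (∃ i < 4, q 1 3 = g ^ i) →
    (∀ x y, WS3 g q p t x y) → WS2x g q p t plS2i
  S2j : ∀ {q p : Mt F} {m : F} {t : Fin 10 → F}, Ctx g q p m t → p 1 4 = 1 → (∃ i < 4, q 1 4 = g ^ i) →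
    (∀ x y, WS3 g q p t x y) → WS2x g q p t plS2j
  Alpha : ∀ {q p : Mt F} {m : F} {t : Fin 10 → F}, Ctx g q p m t → p 1 3 = 1 → p 1 4 ≠ 0 → WS2 g q p t → WC g q p t plAlpha
  Alpha0 : ∀ {q p : Mt F} {m : F} {t : Fin 10 → F}, Ctx g q p m t → p 1 3 = 1 → p 1 4 ≠ 0 → WS2x g q p t plS2i → WC g q p t plAlpha0
  Beta1 : ∀ {q p : Mt F} {m : F} {t : Fin 10 → F}, Ctx g q p m t → p 1 3 = 1 → p 1 4 = 0 → WS2 g q p t → WC g q p t plBeta1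
  Beta10 : ∀ {q p : Mt F} {m : F} {t : Fin 10 → F}, Ctx g q p m t → p 1 3 = 1 → p 1 4 = 0 → WS2x g q p t plS2i → WC g q p t plBeta10
  Beta2 : ∀ {q p : Mt F} {m : F} {t : Fin 10 → F}, Ctx g q p m t → p 1 3 = 0 → p 1 4 = 1 → WS2 g q p t → WC g q p t plBeta2
  Beta20 : ∀ {q p : Mt F} {m : F} {t : Fin 10 → F}, Ctx g q p m t → p 1 3 = 0 → p 1 4 = 1 → WS2x g q p t plS2j → WC g q p t plBeta20
  Beta3 : ∀ {q p : Mt F} {m : F} {t : Fin 10 → F}, Ctx g q p m t → p = q → p 1 3 = 0 → p 1 4 = 0 → WS3 g q p t 0 0 → WC g q p t plBeta3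
  Z0 : ∀ {q p : Mt F} {m : F} {t : Fin 10 → F}, Ctx g q p m t → p = q → p 0 1 = 0 → p 1 2 = 0 → p 1 3 = 0 → p 1 4 = 0 → NZ g q →
    (∀ x y, WS3 g q p t x y) → WC g q p t plZ0
  Ca : ∀ {q p : Mt F} {m : F} {t : Fin 10 → F}, Ctx g q p m t → WC g q p t plAlpha → WP g (Sol g q) plCa (K19 g p t) []
  Cb1 : ∀ {q p : Mt F} {m : F} {t : Fin 10 → F}, Ctx g q p m t → WC g q p t plBeta1 → WP g (Sol g q) plCb1 (K19 g p t) []
  Cb2 : ∀ {q p : Mt F} {m : F} {t : Fin 10 → F}, Ctx g q p m t → WC g q p t plBeta2 → WP g (Sol g q) plCb2 (K19 g p t) []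
  Cb3 : ∀ {q p : Mt F} {m : F} {t : Fin 10 → F}, Ctx g q p m t → WC g q p t plBeta3 → WP g (Sol g q) plCb3 (K19 g p t) []
  Ca0 : ∀ {q p : Mt F} {m : F} {t : Fin 10 → F}, Ctx g q p m t → WC g q p t plAlpha0 → WP g (Sol g q) plCa0 (K19 g p t) []
  Cb10 : ∀ {q p : Mt F} {m : F} {t : Fin 10 → F}, Ctx g q p m t → WC g q p t plBeta10 → WP g (Sol g q) plCb10 (K19 g p t) []
  Cb20 : ∀ {q p : Mt F} {m : F} {t : Fin 10 → F}, Ctx g q p m t → WC g q p t plBeta20 → WP g (Sol g q) plCb20 (K19 g p t) []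
  Cz : ∀ {q p : Mt F} {m : F} {t : Fin 10 → F}, Ctx g q p m t → WC g q p t plZ0 → WP g (Sol g q) plCz (K19 g p t) []

theorem WPs.s3 (w : WPs g) {q p : Mt F} {m : F} {t : Fin 10 → F} (c : Ctx g q p m t) (x y : F) : WS3 g q p t x y :=
  w.S3 c x y fun s => w.D1 c x y s

theorem WPs.conts (w : WPs g) {q : Mt F} {t : Fin 10 → F} (c : Ctx g q q 1 t) : Conts g q t where
  a _ _ c' h13 h14 := w.Ca c' (w.Alpha c' h13 h14 (w.S2 c' (w.s3 c' 0 0)))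
  b1 _ _ c' h13 h14 := w.Cb1 c' (w.Beta1 c' h13 h14 (w.S2 c' (w.s3 c' 0 0)))
  b2 _ _ c' h13 h14 := w.Cb2 c' (w.Beta2 c' h13 h14 (w.S2 c' (w.s3 c' 0 0)))
  b3 h13 h14 := w.Cb3 c (w.Beta3 c rfl h13 h14 (w.s3 c 0 0))
  a0 _ _ c' h13 h14 hq := w.Ca0 c' (w.Alpha0 c' h13 h14 (w.S2i c' h13 hq (w.s3 c')))
  b10 _ _ c' h13 h14 hq := w.Cb10 c' (w.Beta10 c' h13 h14 (w.S2i c' h13 hq (w.s3 c')))
  b20 _ _ c' h13 h14 hq := w.Cb20 c' (w.Beta20 c' h13 h14 (w.S2j c' h14 hq (w.s3 c')))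
  z h01 h12 h13 h14 hn := w.Cz c (w.Z0 c rfl h01 h12 h13 h14 hn (w.s3 c))

/-- **box H** from the WP lemmas and the soundness of the runs -/
theorem WPs.search [CharP F 3] (w : WPs g) (hg : g ^ 4 = 1 - g)
    (snd : ∀ (t : Fin 10 → F) (G : Prop), (∀ i, t i = 0 ∨ t i = 1 ∨ t i = -1) →
      WP g G plan [t 0, t 1, t 2, t 3, t 4, t 5, t 6] [] → G)
    (q : Mt F) (h : PNine g q) : Cfsg.Agent.H947.P9.Concl g q :=
  search_of hg snd (fun _ _ c => w.conts c) q h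

end
end Cfsg.Agent.H780.P9
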