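import Cfsg.Agent.H780.P9.Def
import Cfsg.Agent.H136.P9.PlanData

/-!
# S5925, box H: the names of helper136's plan data (helper780)
-/

set_option autoImplicit false
set_option linter.style.longLine false

namespace Cfsg.Agent.H780.P9

export Cfsg.Agent.H136.P9 (plD3 plD2 plD1 plS3 plS2 plS2i plS2j plAT plAlpha plB1b plBeta1 plB2b plBeta2 plAT0 plAlpha0 plB1b0 plBeta10 plB2b0 plBeta20 plB3c plBeta3 plZ0c plZ0b plZ0d plZ0e plZ0 plTa plLa plTb1 plLb1 plTb2 plLb2 plTb3 plLb3 plTa0 plLa0 plTb10 plLb10 plTb20 plLb20 plTz plLz plCa plCb1 plCb2 plCb3 plBr plCa0 plCb10 plCb20 plCz plBr0 plR1 plan)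

end Cfsg.Agent.H780.P9
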